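import Groth.Agent.RegLCILib.Ring
import Mathlib

/-!
# Morphisms between regular schemes are local complete intersections
-/

set_option autoImplicit false
set_option linter.style.haveILetI false

universe u

open CategoryTheory AlgebraicGeometry

namespace RegLCILib

theorem isRegularRing_section {X : Scheme.{u}} [IsLocallyNoetherian X]
    (hX : ∀ x : X, IsRegularLocalRing (X.presheaf.stalk x)) {U : X.Opens} (hU : IsAffineOpen U) :
    IsRegularRing Γ(X, U) := by
  haveI : IsNoetherianRing Γ(X, U) := IsLocallyNoetherian.component_noetherian ⟨U, hU⟩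
  refine isRegularRing_iff.2 fun p hp ↦ ?_
  let s := hU.fromSpec ⟨p, hp⟩
  have hsU : s ∈ U := hU.range_fromSpec.le ⟨⟨p, hp⟩, rfl⟩
  letI := TopCat.Presheaf.algebra_section_stalk X.presheaf ⟨s, hsU⟩
  have hloc : IsLocalization.AtPrime (X.presheaf.stalk s) (hU.primeIdealOf ⟨s, hsU⟩).asIdeal :=
    hU.isLocalization_stalk ⟨s, hsU⟩
  rw [show hU.primeIdealOf ⟨s, hsU⟩ = ⟨p, hp⟩ from
    hU.fromSpec.isOpenEmbedding.injective (hU.fromSpec_primeIdealOf ⟨s, hsU⟩)] at hloc
  haveI := hloc
  haveI := hX s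
  exact IsRegularLocalRing.of_ringEquiv
    (IsLocalization.algEquiv p.primeCompl (X.presheaf.stalk s) (Localization.AtPrime p)).toRingEquiv

theorem isLCI_appLE {X Y : Scheme.{u}} (f : X ⟶ Y) [LocallyOfFiniteType f] [IsLocallyNoetherian X] [IsLocallyNoetherian Y]
    (hX : ∀ x : X, IsRegularLocalRing (X.presheaf.stalk x)) (hY : ∀ y : Y, IsRegularLocalRing (Y.presheaf.stalk y))
    {U : X.Opens} {V : Y.Opens} (hU : IsAffineOpen U) (hV : IsAffineOpen V) (hUV : U ≤ f ⁻¹ᵁ V) :
    letI := (f.appLE V U hUV).hom.toAlgebra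
    LCI.IsLCI Γ(Y, V) Γ(X, U) := by
  letI := (f.appLE V U hUV).hom.toAlgebra
  haveI : Algebra.FiniteType Γ(Y, V) Γ(X, U) := f.finiteType_appLE hV hU hUV
  haveI := isRegularRing_section hX hU
  haveI := isRegularRing_section hY hV
  exact isLCI_of_isRegularRing

end RegLCILib
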