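import Groth.Agent.RelRegLib.Gen
import Groth.Agent.TransLib.RegPres
import Groth.Agent.GorLib.RegSeq
import Groth.Agent.KRLib.FF
import Mathlib

/-!
# Koszul regular ideals at a point
-/

set_option autoImplicit false
set_option linter.style.haveILetI false

universe u

open KoszDetLib KRLib RingTheory.Sequence IsLocalRing

namespace RegLCILib

/-- A Koszul exact family in the maximal ideal generates an ideal cut out by a regular sequence. -/
theorem exists_regular_of_krGen {R : Type u} [CommRing R] [IsLocalRing R] [IsNoetherianRing R] {I : Ideal R}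
    (hI : I ≤ maximalIdeal R) (h : KRGen I) : ∃ rs : List R, Ideal.ofList rs = I ∧ IsRegular R rs := by
  obtain ⟨n, f, hf, rfl⟩ := h
  have hm : ∀ i, f i ∈ maximalIdeal R := fun i => hI (Ideal.subset_span ⟨i, rfl⟩)
  have he : Ideal.ofList (List.ofFn f).reverse = Ideal.span (Set.range f) := by
    unfold Ideal.ofList
    congr 1
    ext x
    simp [List.mem_ofFn]
  refine ⟨_, he, GorLib.isWeaklyRegular_reverse_of_isExactK f hf hm, fun htop => ?_⟩
  rw [smul_eq_mul, Ideal.mul_top, he] at htop
  exact (IsLocalRing.maximalIdeal.isMaximal R).ne_top (top_le_iff.1 (htop.le.trans hI))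

theorem krGen_of_regular {R : Type u} [CommRing R] {I : Ideal R} {rs : List R} (h : IsWeaklyRegular R rs)
    (he : Ideal.ofList rs = I) : KRGen I :=
  ⟨_, rs.get, isExactK_of_isWeaklyRegular rs h, ((TransLib.ofList_ofFn _).symm.trans (by rw [List.ofFn_get])).trans he⟩

/-- A Koszul regular ideal is generated by a regular sequence at each of its points. -/
theorem exists_regular_atPrime {P : Type u} [CommRing P] [IsNoetherianRing P] {I : Ideal P} (h : LocKR I)
    (p : Ideal P) [p.IsPrime] (hIp : I ≤ p) :
    ∃ rs : List (Localization.AtPrime p), Ideal.ofList rs = I.map (algebraMap P (Localization.AtPrime p)) ∧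
      IsRegular (Localization.AtPrime p) rs := by
  obtain ⟨g, hg, hkr⟩ := h p inferInstance hIp
  let T := Localization.AtPrime p
  let L := Localization.Away g
  have hu : IsUnit (algebraMap P T g) := IsLocalization.map_units T (⟨g, hg⟩ : p.primeCompl)
  let ι : L →+* T := IsLocalization.Away.lift g hu
  letI : Algebra L T := ι.toAlgebra
  haveI : IsScalarTower P L T := IsScalarTower.of_algebraMap_eq fun x => (IsLocalization.Away.lift_eq g hu x).symm
  haveI : Module.Flat L T := (Module.flat_iff_of_isLocalization L (Submonoid.powers g) T).2 inferInstance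
  have h2 := hkr.map_flat (R := T)
  rw [Ideal.map_map, ← IsScalarTower.algebraMap_eq] at h2
  refine exists_regular_of_krGen ?_ h2
  rw [← IsLocalization.AtPrime.map_eq_maximalIdeal p T]
  exact Ideal.map_mono hIp

/-- Regular sequences at a point spread to a neighbourhood. -/
theorem exists_krGen_away {P : Type u} [CommRing P] [IsNoetherianRing P] (I : Ideal P) (p : Ideal P) [p.IsPrime]
    (hpI : I ≤ p) (rs : List (Localization.AtPrime p)) (hspan : Ideal.ofList rs = I.map (algebraMap P (Localization.AtPrime p)))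
    (hreg : IsRegular (Localization.AtPrime p) rs) :
    ∃ g, g ∉ p ∧ KRGen (I.map (algebraMap P (Localization.Away g))) := by
  classical
  let τ := algebraMap P (Localization.AtPrime p)
  have hdense : ∀ z, ∃ s ∈ p.primeCompl, ∃ x, z * τ s = τ x := fun z => by
    obtain ⟨⟨x, s⟩, h⟩ := IsLocalization.surj p.primeCompl z
    exact ⟨s, s.2, x, h⟩
  have hmem : ∀ j : Fin rs.length, ∃ f ∈ I, Associated (τ f) (rs.get j) := fun j => by
    have h1 : rs.get j ∈ I.map τ := hspan.le (Ideal.subset_span (List.get_mem rs j))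
    obtain ⟨s, hs, f, hf, hsf⟩ := TransLib.exists_of_mem_map (P := P) (T := Localization.AtPrime p) (I := I)
      (z := rs.get j) τ p.primeCompl hdense h1
    have hu : IsUnit (τ s) := IsLocalization.map_units _ (⟨s, hs⟩ : p.primeCompl)
    exact ⟨f, hf, ⟨hu.unit⁻¹, by rw [← hsf, mul_assoc, IsUnit.mul_val_inv, mul_one]⟩⟩
  choose f hfI hass using hmem
  have hle : (Ideal.span (Set.range f)).map τ ≤ I.map τ := Ideal.map_mono (Ideal.span_le.2 (Set.range_subset_iff.2 hfI))
  have hgen : I.map τ ≤ (Ideal.span (Set.range f)).map τ := by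
    rw [← hspan]
    refine (CommAlgDim.ofList_le_iff (R := Localization.AtPrime p)).2 fun x hx => ?_
    obtain ⟨j, rfl⟩ := List.mem_iff_get.1 hx
    exact Ideal.mem_of_dvd _ (hass j).dvd (Ideal.mem_map_of_mem _ (Ideal.subset_span ⟨j, rfl⟩))
  have hex : IsExactK (fun i => τ (f i)) := by
    refine isExactK_of_length_eq (isExactK_of_isWeaklyRegular rs hreg.toIsWeaklyRegular) ?_
    rw [show Ideal.span (Set.range rs.get) = Ideal.ofList rs from
      (TransLib.ofList_ofFn _).symm.trans (by rw [List.ofFn_get]), hspan,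
      show Set.range (fun i => τ (f i)) = τ '' Set.range f from Set.range_comp τ f, ← Ideal.map_span]
    exact le_antisymm hgen hle
  have hw := GorLib.isWeaklyRegular_reverse_of_isExactK _ hex
    (fun i => (IsLocalization.AtPrime.to_map_mem_maximal_iff _ p _).2 (hpI (hfI i)))
  rw [show List.ofFn (fun i => τ (f i)) = (List.ofFn f).map τ from (List.map_ofFn).symm, ← List.map_reverse] at hw
  obtain ⟨s, hs, hsw⟩ := TransLib.exists_weaklyRegular_away p (List.ofFn f).reverse hw
  obtain ⟨t, ht⟩ := (IsNoetherian.noetherian I : I.FG)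
  have h1 : ∀ x : t, ∃ r ∉ p, r * (x : P) ∈ Ideal.span (Set.range f) := fun x =>
    (IsLocalization.algebraMap_mem_map_algebraMap_iff p.primeCompl (Localization.AtPrime p) _ _).1
      (hgen (Ideal.mem_map_of_mem _ (ht ▸ Ideal.subset_span x.2)))
  choose r hr hrJ using h1
  let g := s * ∏ x : t, r x
  refine ⟨g, p.primeCompl.mul_mem hs (prod_mem (S := p.primeCompl) fun x _ => hr x),
    ((List.ofFn f).reverse.map (algebraMap P (Localization.Away g))).length, _,
    isExactK_of_isWeaklyRegular _ (hsw g (dvd_mul_right s _)), ?_⟩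
  rw [show Ideal.span (Set.range ((List.ofFn f).reverse.map (algebraMap P (Localization.Away g))).get) =
    Ideal.ofList ((List.ofFn f).reverse.map (algebraMap P (Localization.Away g))) from (TransLib.ofList_ofFn _).symm.trans (by rw [List.ofFn_get]),
    ← Ideal.map_ofList, show Ideal.ofList (List.ofFn f).reverse = Ideal.span (Set.range f) by
      unfold Ideal.ofList
      congr 1
      ext x
      simp [List.mem_ofFn]]
  refine le_antisymm (Ideal.map_mono (Ideal.span_le.2 (Set.range_subset_iff.2 hfI))) ?_
  have hu : IsUnit (algebraMap P (Localization.Away g) (∏ x : t, r x)) :=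
    (IsUnit.mul_iff.1 (map_mul (algebraMap P (Localization.Away g)) s (∏ x : t, r x) ▸
      IsLocalization.Away.algebraMap_isUnit g)).2
  conv_lhs => rw [← ht]
  rw [Ideal.map_le_iff_le_comap, Ideal.span_le]
  intro z hz
  show z ∈ Ideal.comap _ _
  rw [Ideal.mem_comap, ← Ideal.unit_mul_mem_iff_mem _ hu, ← map_mul]
  refine Ideal.mem_map_of_mem _ ?_
  obtain ⟨d, hd⟩ : r ⟨z, hz⟩ ∣ ∏ x : t, r x := Finset.dvd_prod_of_mem r (Finset.mem_univ _)
  rw [hd, mul_right_comm]
  exact Ideal.mul_mem_right d _ (hrJ ⟨z, hz⟩)

end RegLCILib
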