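import Groth.Agent.DepthLib.LocalPD
import Groth.Agent.CILib.TorDim
import Groth.Agent.CILib.MinGen
import Groth.Agent.FlatLib.Local
import Mathlib

/-!
# Finite tor dimension over the base gives finite projective dimension at points with regular fibres
-/

set_option autoImplicit false
set_option linter.style.haveILetI false

universe u

open IsLocalRing TensorProduct CategoryTheory TorDimLib

namespace RegLCILib

variable {C P : Type u} [CommRing C] [CommRing P] [Algebra C P] [Module.Flat C P] [IsNoetherianRing P]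

/-- A finite module of tor dimension `≤ n` over the base has finite projective dimension at every point
where the fibre is regular. -/
theorem exists_pdlt_localized (𝔭 : Ideal P) [𝔭.IsPrime]
    (hreg : IsRegularLocalRing (Localization.AtPrime 𝔭 ⧸
      (𝔭.comap (algebraMap C P)).map (algebraMap C (Localization.AtPrime 𝔭)))) :
    ∀ (n : ℕ) (M : Type u) [AddCommGroup M] [Module P M] [Module.Finite P M] [Module C M] [IsScalarTower C P M],
      (∀ (N : ModuleCat.{u} C) (Q : ProjectiveResolution N) (i : ℕ), n ≤ i → ExactAtSucc M Q i) →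
      ∃ m, CommAlgDim.PDLT (Localization.AtPrime 𝔭) (Localization.AtPrime 𝔭 ⊗[P] M) (m + 1)
  | 0, M, _, _, _, _, _, h => by
    let L := Localization.AtPrime 𝔭
    haveI : Module.Flat C M := flat_of_exactAtSucc fun N _ _ Q => h _ Q 0 le_rfl
    haveI : Module.Flat C L := Module.Flat.trans C P L
    haveI : IsNoetherianRing L := IsLocalization.isNoetherianRing 𝔭.primeCompl _ inferInstance
    haveI : Module.Flat C (L ⊗[P] M) :=
      FlatLib.flat_localized (S := P) 𝔭.primeCompl (TensorProduct.mk P L M 1)
    haveI := hreg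
    have hp : (𝔭.comap (algebraMap C P)).map (algebraMap C L) ≤ maximalIdeal L := by
      rw [IsScalarTower.algebraMap_eq C P L, ← Ideal.map_map, ← IsLocalization.AtPrime.map_eq_maximalIdeal 𝔭 L]
      exact Ideal.map_mono Ideal.map_comap_le
    exact ⟨_, (DepthLib.pdlt_fibre_iff C (𝔭.comap (algebraMap C P)) hp _ (L ⊗[P] M)).1
      (CommAlgDim.pdlt_of_isRegularLocalRing _ _)⟩
  | n + 1, M, _, _, _, _, _, h => by
    let L := Localization.AtPrime 𝔭
    obtain ⟨k, g, hg⟩ := Module.Finite.exists_fin' P M
    haveI : Module.Flat C (Fin k → P) := Module.Flat.trans C P _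
    let ι : LinearMap.ker g →ₗ[C] (Fin k → P) := (LinearMap.ker g).subtype.restrictScalars C
    obtain ⟨m, hm⟩ := exists_pdlt_localized 𝔭 hreg n (LinearMap.ker g) fun N Q i hi =>
      exactAtSucc_shift ι (g.restrictScalars C) Subtype.val_injective (LinearMap.exact_subtype_ker_map g) hg Q i
        (h N Q (i + 1) (by omega))
    refine ⟨m + 1, (CommAlgDim.pdlt_ker_iff (g.baseChange L) (LinearMap.lTensor_surjective _ hg) m).2 ?_⟩
    exact CommAlgDim.PDLT.of_equiv (LinearMap.tensorKerEquiv L L g) hm

theorem exists_pdlt_of_hasFiniteTorDim (𝔭 : Ideal P) [𝔭.IsPrime]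
    (hreg : IsRegularLocalRing (Localization.AtPrime 𝔭 ⧸
      (𝔭.comap (algebraMap C P)).map (algebraMap C (Localization.AtPrime 𝔭))))
    (M : Type u) [AddCommGroup M] [Module P M] [Module.Finite P M] [Module C M] [IsScalarTower C P M]
    (h : DRing.HasFiniteTorDim C M) :
    DRing.HasFiniteTorDim (Localization.AtPrime 𝔭) (Localization.AtPrime 𝔭 ⊗[P] M) := by
  obtain ⟨n, hn⟩ := h
  haveI : IsNoetherianRing (Localization.AtPrime 𝔭) := IsLocalization.isNoetherianRing 𝔭.primeCompl _ inferInstance
  obtain ⟨m, hm⟩ := exists_pdlt_localized 𝔭 hreg n M fun N Q i hi =>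
    exactAtSucc_of_subsingleton_tor (N := N) Q i (hn N (i + 1) (by omega))
  exact CILib.hasFiniteTorDim_of_FD (CILib.FD_of_pdlt _ hm)

end RegLCILib
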