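import Groth.Agent.RegLCILib.Local
import Groth.Agent.RegLCILib.TorDim
import Groth.Agent.S2200
import Groth.Agent.TransLib.PointNhd
import Mathlib

/-!
# Cancellation for Koszul regular ideals under a finite tor dimension hypothesis
-/

set_option autoImplicit false
set_option linter.style.haveILetI false

universe u

open KoszDetLib KRLib RingTheory.Sequence IsLocalRing TensorProduct

namespace RegLCILib

theorem hasFiniteTorDim_of_ringEquiv {L L' : Type u} [CommRing L] [CommRing L'] (e : L ≃+* L') {M M' : Type u}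
    [AddCommGroup M] [Module L M] [AddCommGroup M'] [Module L' M'] (f : M ≃+ M')
    (hf : ∀ (c : L) (x : M), f (c • x) = e c • f x) (h : DRing.HasFiniteTorDim L M) :
    DRing.HasFiniteTorDim L' M' := by
  obtain ⟨n, hn⟩ := DiagLib.exists_FD_of_hasFiniteTorDim h
  letI : Algebra L' L := e.symm.toRingHom.toAlgebra
  letI : Module L' M := Module.compHom M e.symm.toRingHom
  haveI : IsScalarTower L' L M := IsScalarTower.of_algebraMap_smul fun _ _ => rfl
  haveI : Module.Flat L' L :=
    Module.Flat.of_linearEquiv ({ e.toAddEquiv with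
      map_smul' := fun c x => by
        show e (e.symm c * x) = c * e x
        rw [map_mul, e.apply_symm_apply] } : L ≃ₗ[L'] L')
  refine CILib.hasFiniteTorDim_of_FD (DiagLib.FD.of_equiv n ?_ (DiagLib.FD.restrict (C := L') n hn))
  exact { f with
    map_smul' := fun c x => by
      show f (e.symm c • x) = c • f x
      rw [hf, e.apply_symm_apply] }

/-- The local statement, over abstract rings. -/
theorem cancel_local {A L : Type u} [CommRing A] [CommRing L] [IsNoetherianRing A] [IsLocalRing A]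
    (π : A →+* L) (hπ : Function.Surjective π) (K : Ideal L) (hne : K.comap π ≠ ⊤)
    (hfd : DRing.HasFiniteTorDim L (L ⧸ K))
    (hreg : ∃ rs : List A, Ideal.ofList rs = K.comap π ∧ IsRegular A rs) :
    (∃ rs : List L, Ideal.ofList rs = K ∧ IsRegular L rs) ∧
      ∃ rs : List A, Ideal.ofList rs = RingHom.ker π ∧ IsRegular A rs := by
  let JA := RingHom.ker π
  let IA := K.comap π
  have hJI : JA ≤ IA := fun x hx => by
    show π x ∈ K
    rw [show π x = 0 from hx]
    exact zero_mem _
  let e : (A ⧸ JA) ≃+* L := RingHom.quotientKerEquivOfSurjective hπ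
  have he : ∀ a, e (Ideal.Quotient.mk JA a) = π a := fun a => rfl
  letI : Algebra (A ⧸ JA) (A ⧸ IA) := (Ideal.Quotient.factor hJI).toAlgebra
  haveI : IsScalarTower A (A ⧸ JA) (A ⧸ IA) := ⟨fun a y z => by
    obtain ⟨y, rfl⟩ := Ideal.Quotient.mk_surjective y
    obtain ⟨z, rfl⟩ := Ideal.Quotient.mk_surjective z
    show Ideal.Quotient.mk IA (a * y * z) = Ideal.Quotient.mk IA (a * (y * z))
    rw [mul_assoc]⟩
  have hψ : RingHom.ker ((Ideal.Quotient.mk K).comp π) = IA := by rw [← RingHom.comap_ker, Ideal.mk_ker]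
  let ε : (A ⧸ IA) ≃+* L ⧸ K :=
    (Ideal.quotEquivOfEq hψ.symm).trans (RingHom.quotientKerEquivOfSurjective (Ideal.Quotient.mk_surjective.comp hπ))
  have hε : ∀ a, ε (Ideal.Quotient.mk IA a) = Ideal.Quotient.mk K (π a) := fun a => rfl
  have hfd' : DRing.HasFiniteTorDim (A ⧸ JA) (A ⧸ IA) := by
    refine hasFiniteTorDim_of_ringEquiv e.symm ε.symm.toAddEquiv (fun c x => ?_) hfd
    obtain ⟨b, rfl⟩ := hπ c
    obtain ⟨y, rfl⟩ := Ideal.Quotient.mk_surjective x
    obtain ⟨a, rfl⟩ := hπ y
    show ε.symm (Ideal.Quotient.mk K (π b) * Ideal.Quotient.mk K (π a)) = _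
    rw [map_mul, ← hε a, ← hε b, ε.symm_apply_apply, ε.symm_apply_apply, ← he b, e.symm_apply_apply, Algebra.smul_def]
    show _ = Ideal.Quotient.mk IA b * ε.symm (ε (Ideal.Quotient.mk IA a))
    rw [ε.symm_apply_apply]
  obtain ⟨hJ, rs', hrs', hreg'⟩ := Groth.Agent.S2200.result JA IA hJI hne hfd' hreg
  refine ⟨⟨rs'.map e, ?_, TransLib.isRegular_of_ringEquiv e hreg'⟩, hJ⟩
  rw [show Ideal.ofList (rs'.map e) = (Ideal.ofList rs').map e.toRingHom from (Ideal.map_ofList _ _).symm, hrs',
    Ideal.map_map]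
  exact Ideal.map_comap_of_surjective π hπ K

/-- At a point: if the composite is cut out by a regular sequence and the second map has finite tor
dimension over the middle ring, both maps are cut out by regular sequences. -/
theorem cancel_at {P P' B : Type u} [CommRing P] [CommRing P'] [CommRing B] [IsNoetherianRing P]
    (θ : P →+* P') (hθ : Function.Surjective θ) (σ : P' →+* B)
    (hI : LocKR (RingHom.ker (σ.comp θ))) (𝔭' : Ideal P') [𝔭'.IsPrime] (h𝔭 : RingHom.ker σ ≤ 𝔭')
    (hfd : DRing.HasFiniteTorDim (Localization.AtPrime 𝔭')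
      (Localization.AtPrime 𝔭' ⧸ (RingHom.ker σ).map (algebraMap P' (Localization.AtPrime 𝔭')))) :
    (∃ g, g ∉ 𝔭' ∧ KRGen ((RingHom.ker σ).map (algebraMap P' (Localization.Away g)))) ∧
      ∃ rs : List (Localization.AtPrime (𝔭'.comap θ)),
        Ideal.ofList rs = (RingHom.ker θ).map (algebraMap P (Localization.AtPrime (𝔭'.comap θ))) ∧
        IsRegular (Localization.AtPrime (𝔭'.comap θ)) rs := by
  haveI : IsNoetherianRing P' := isNoetherianRing_of_surjective P P' θ hθ
  letI := θ.toAlgebra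
  let 𝔭 := 𝔭'.comap θ
  let A := Localization.AtPrime 𝔭
  let L := Localization.AtPrime 𝔭'
  haveI : IsNoetherianRing A := IsLocalization.isNoetherianRing 𝔭.primeCompl _ inferInstance
  haveI : IsNoetherianRing L := IsLocalization.isNoetherianRing 𝔭'.primeCompl _ inferInstance
  obtain ⟨π, hπ, hπk⟩ := TransLib.exists_localPresentation' (Algebra.ofId P P') hθ 𝔭' 𝔭 rfl
  let JA : Ideal A := (RingHom.ker θ).map (algebraMap P A)
  let IA : Ideal A := (RingHom.ker (σ.comp θ)).map (algebraMap P A)
  let K : Ideal L := (RingHom.ker σ).map (algebraMap P' L)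
  have hker : RingHom.ker π.toRingHom = JA := hπk
  have hle : RingHom.ker (σ.comp θ) ≤ 𝔭 := fun x hx => h𝔭 (show σ (θ x) = 0 from hx)
  have hJI : JA ≤ IA := Ideal.map_mono fun x hx => by
    rw [RingHom.mem_ker, RingHom.comp_apply, show θ x = 0 from hx, map_zero]
  have hIA : IA ≤ maximalIdeal A := by
    rw [← IsLocalization.AtPrime.map_eq_maximalIdeal 𝔭 A]
    exact Ideal.map_mono hle
  have hπI : IA.map π.toRingHom = K := by
    rw [Ideal.map_map, show π.toRingHom.comp (algebraMap P A) = (algebraMap P' L).comp θ from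
      RingHom.ext fun x => (π.commutes x).trans (IsScalarTower.algebraMap_apply P P' L x), ← Ideal.map_map,
      ← RingHom.comap_ker, Ideal.map_comap_of_surjective θ hθ]
  have hIK : K.comap π.toRingHom = IA := by
    rw [← hπI, Ideal.comap_map_of_surjective π.toRingHom hπ, ← RingHom.ker_eq_comap_bot, hker, sup_eq_left.2 hJI]
  obtain ⟨rsI, hrsI, hregI⟩ := exists_regular_atPrime hI 𝔭 hle
  obtain ⟨⟨rs, hrs, hreg⟩, rsJ, hrsJ, hregJ⟩ := cancel_local (A := A) (L := L) π.toRingHom hπ K
    (hIK.trans_ne (ne_top_of_le_ne_top (IsLocalRing.maximalIdeal.isMaximal A).ne_top hIA)) hfd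
    ⟨rsI, hrsI.trans hIK.symm, hregI⟩
  exact ⟨exists_krGen_away (RingHom.ker σ) 𝔭' h𝔭 rs hrs hreg, rsJ, hrsJ.trans hker, hregJ⟩

end RegLCILib
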