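import Groth.Agent.RegLCILib.Cancel
import Groth.Agent.KoszAtLib.Ring
import Groth.Agent.RelRegLib.Basic
import Mathlib

/-!
# Local complete intersection composites with a second map of finite tor dimension
-/

set_option autoImplicit false
set_option linter.style.haveILetI false

universe u

open KoszDetLib KRLib RingTheory.Sequence IsLocalRing TensorProduct

namespace RegLCILib

/-- The tor dimension hypothesis at all points of all presentations. -/
def LocFD (C B : Type u) [CommRing C] [CommRing B] [Algebra C B] : Prop :=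
  ∀ (m : ℕ) (σ : MvPolynomial (Fin m) C →ₐ[C] B), Function.Surjective σ →
    ∀ (p : Ideal (MvPolynomial (Fin m) C)) [p.IsPrime], RingHom.ker σ.toRingHom ≤ p →
      DRing.HasFiniteTorDim (Localization.AtPrime p)
        (Localization.AtPrime p ⧸ (RingHom.ker σ.toRingHom).map (algebraMap _ (Localization.AtPrime p)))

theorem locFD_of_isRegularRing {C B : Type u} [CommRing C] [CommRing B] [Algebra C B] [IsRegularRing C] :
    LocFD C B := fun _ _ _ p _ _ =>
  CILib.hasFiniteTorDim_of_FD (CILib.FD_of_pdlt _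
    (CommAlgDim.pdlt_of_isRegularLocalRing (Localization.AtPrime p) _))

theorem locFD_of_hasFiniteTorDim {C B : Type u} [CommRing C] [CommRing B] [Algebra C B] [IsNoetherianRing C]
    (h : DRing.HasFiniteTorDim C B) : LocFD C B := by
  intro m σ hσ 𝔭 _ h𝔭
  let P := MvPolynomial (Fin m) C
  letI : Module P B := Module.compHom B σ.toRingHom
  haveI : IsScalarTower C P B := IsScalarTower.of_algebraMap_smul fun r x => by
    show σ (algebraMap C P r) * x = r • x
    rw [AlgHom.commutes, Algebra.smul_def]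
  let g : P →ₗ[P] B :=
    { toFun := σ
      map_add' := map_add σ
      map_smul' := fun c x => map_mul σ c x }
  have hg : Function.Surjective g := hσ
  haveI : Module.Finite P B := Module.Finite.of_surjective g hg
  haveI : Algebra.Smooth C P := ⟨inferInstance, inferInstance⟩
  let p := 𝔭.comap (algebraMap C P)
  let Q₀ := PrimeSpectrum.preimageHomeomorphFiber C P ⟨p, inferInstance⟩ ⟨⟨𝔭, inferInstance⟩, rfl⟩
  let QF : Ideal (p.Fiber P) := Q₀.asIdeal
  haveI : QF.IsPrime := Q₀.isPrime
  have hQF : QF.comap (Algebra.TensorProduct.includeRight : P →ₐ[C] p.Fiber P).toRingHom = 𝔭 := by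
    have e := (PrimeSpectrum.preimageHomeomorphFiber C P ⟨p, inferInstance⟩).symm_apply_apply ⟨⟨𝔭, inferInstance⟩, rfl⟩
    exact congrArg (fun z => (Subtype.val z).asIdeal) e
  haveI := RelRegLib.isRegularLocalRing_fib 𝔭 QF
  have key : ∀ (r : Ideal P) [r.IsPrime], r = 𝔭 →
      Nonempty ((Localization.AtPrime r ⧸ (p.map (algebraMap C P)).map (algebraMap P (Localization.AtPrime r))) ≃+*
        (Localization.AtPrime 𝔭 ⧸ p.map (algebraMap C (Localization.AtPrime 𝔭)))) := by
    intro r _ hr
    subst hr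
    exact ⟨Ideal.quotEquivOfEq (by rw [Ideal.map_map, ← IsScalarTower.algebraMap_eq])⟩
  obtain ⟨e⟩ := key _ hQF
  have hreg : IsRegularLocalRing (Localization.AtPrime 𝔭 ⧸ p.map (algebraMap C (Localization.AtPrime 𝔭))) :=
    IsRegularLocalRing.of_ringEquiv (R := Localization.AtPrime QF) ((Ideal.Fiber.algEquivAux₂ p QF).toRingEquiv.trans e)
  have h1 := exists_pdlt_of_hasFiniteTorDim 𝔭 hreg B h
  have hgk : LinearMap.ker g = RingHom.ker σ.toRingHom := Submodule.ext fun _ => Iff.rfl
  let E : (P ⧸ RingHom.ker σ.toRingHom) ≃ₗ[P] B :=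
    (Submodule.quotEquivOfEq _ _ hgk.symm).trans (g.quotKerEquivOfSurjective hg)
  refine CILib.hasFiniteTorDim_of_equiv ?_ h1
  exact (E.symm.baseChange P (Localization.AtPrime 𝔭) _ _).trans
    (Algebra.TensorProduct.quotIdealMapEquivTensorQuot (Localization.AtPrime 𝔭) (RingHom.ker σ.toRingHom)).symm.toLinearEquiv

variable {R C B : Type u} [CommRing R] [CommRing C] [CommRing B] [IsNoetherianRing R] [Algebra R C] [Algebra C B]
  [Algebra R B] [IsScalarTower R C B] [Algebra.FiniteType R C] [Algebra.FiniteType C B]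

/-- If `R → B` is lci and `B` has locally finite tor dimension over `C`, then `C → B` is lci and
`R → C` is lci at the image of `Spec B`. -/
theorem master (h : LCI.IsLCI R B) (hfd : LocFD C B) :
    LCI.IsLCI C B ∧ ∀ q : Ideal B, q.IsPrime →
      ∃ g : C, g ∉ q.comap (algebraMap C B) ∧ LCI.IsLCI R (Localization.Away g) := by
  obtain ⟨n, σC, hσC⟩ := Algebra.FiniteType.iff_quotient_mvPolynomial''.1 (inferInstance : Algebra.FiniteType R C)
  obtain ⟨m, σ, hσ⟩ := Algebra.FiniteType.iff_quotient_mvPolynomial''.1 (inferInstance : Algebra.FiniteType C B)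
  let P₀ := MvPolynomial (Fin n) R
  let P := MvPolynomial (Fin m) P₀
  let P' := MvPolynomial (Fin m) C
  let θ : P →+* P' := MvPolynomial.map σC.toRingHom
  have hθ : Function.Surjective θ := MvPolynomial.map_surjective _ hσC
  haveI : Algebra.Smooth R P₀ := ⟨inferInstance, inferInstance⟩
  haveI : Algebra.Smooth P₀ P := ⟨inferInstance, inferInstance⟩
  haveI : Algebra.Smooth R P := Algebra.Smooth.comp R P₀ P
  let τ : P →ₐ[R] B :=
    { σ.toRingHom.comp θ with
      commutes' := fun r => by
        show σ (θ (algebraMap R P r)) = algebraMap R B r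
        rw [IsScalarTower.algebraMap_apply R P₀ P, MvPolynomial.algebraMap_eq]
        show σ (MvPolynomial.map σC.toRingHom (MvPolynomial.C (algebraMap R P₀ r))) = _
        rw [MvPolynomial.map_C]
        show σ (MvPolynomial.C (σC (algebraMap R P₀ r))) = _
        rw [σC.commutes, ← MvPolynomial.algebraMap_eq, σ.commutes, ← IsScalarTower.algebraMap_apply] }
  have hI : LocKR (RingHom.ker (σ.toRingHom.comp θ)) :=
    KoszAtLib.locKR_ker_of_smooth τ (hσ.comp hθ) h
  haveI : IsNoetherianRing C := Algebra.FiniteType.isNoetherianRing R C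
  have hcancel := fun (p : Ideal P') (hp : p.IsPrime) (hle : RingHom.ker σ.toRingHom ≤ p) =>
    cancel_at θ hθ σ.toRingHom hI p hle (hfd m σ hσ p hle)
  refine ⟨⟨inferInstance, m, σ, hσ, (locKR_iff _).1 fun p hp hle => (hcancel p hp hle).1⟩, fun q hq => ?_⟩
  haveI := hq
  let p' := q.comap σ.toRingHom
  have hle : RingHom.ker σ.toRingHom ≤ p' := fun x hx => by
    show σ x ∈ q
    rw [show σ x = 0 from hx]
    exact zero_mem _
  obtain ⟨-, rs, hrs, hregrs⟩ := hcancel p' inferInstance hle
  let 𝔭 := p'.comap θ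
  let 𝔭₀ := 𝔭.comap (algebraMap P₀ P)
  let J₀ := RingHom.ker σC.toRingHom
  let A := Localization.AtPrime 𝔭
  let A₀ := Localization.AtPrime 𝔭₀
  letI : Algebra A₀ A := (Localization.localRingHom 𝔭₀ 𝔭 (algebraMap P₀ P) rfl).toAlgebra
  haveI : IsScalarTower P₀ A₀ A := IsScalarTower.of_algebraMap_eq fun a =>
    ((IsScalarTower.algebraMap_apply P₀ P A a).trans (Localization.localRingHom_to_map 𝔭₀ 𝔭 (algebraMap P₀ P) rfl a).symm)
  haveI : IsLocalHom (algebraMap A₀ A) := Localization.isLocalHom_localRingHom 𝔭₀ 𝔭 _ rfl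
  haveI : Module.Flat P₀ A := Module.Flat.trans P₀ P A
  haveI : Module.Flat A₀ A := (Module.flat_iff_of_isLocalization A₀ 𝔭₀.primeCompl A).2 inferInstance
  haveI : Module.FaithfullyFlat A₀ A := by
    exact @Module.FaithfullyFlat.of_flat_of_isLocalHom A₀ A _ _ _ _ _ _ _
  have hJ : (J₀.map (algebraMap P₀ A₀)).map (algebraMap A₀ A) = (RingHom.ker θ).map (algebraMap P A) := by
    rw [show RingHom.ker θ = J₀.map (algebraMap P₀ P) by
      rw [MvPolynomial.algebraMap_eq]; exact MvPolynomial.ker_map σC.toRingHom, Ideal.map_map, Ideal.map_map,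
      ← IsScalarTower.algebraMap_eq, ← IsScalarTower.algebraMap_eq]
  have hlk : LocKR (J₀.map (algebraMap P₀ A₀)) := by
    refine LocKR.of_faithfullyFlat (B := A) ?_
    rw [hJ]
    exact (krGen_of_regular hregrs.toIsWeaklyRegular hrs).locKR
  have hle₀ : J₀ ≤ 𝔭₀ := fun x hx => by
    show θ (algebraMap P₀ P x) ∈ p'
    rw [MvPolynomial.algebraMap_eq, MvPolynomial.map_C, show σC.toRingHom x = 0 from hx, map_zero]
    exact zero_mem _
  haveI : IsNoetherianRing A₀ := IsLocalization.isNoetherianRing 𝔭₀.primeCompl _ inferInstance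
  have hle₁ : J₀.map (algebraMap P₀ A₀) ≤ maximalIdeal A₀ := by
    rw [← IsLocalization.AtPrime.map_eq_maximalIdeal 𝔭₀ A₀]
    exact Ideal.map_mono hle₀
  obtain ⟨u, hu, hkr⟩ := hlk (maximalIdeal A₀) inferInstance hle₁
  have hkr' : KRGen ((J₀.map (algebraMap P₀ A₀)).map (algebraMap A₀ A₀)) :=
    KRGen.map_of_isUnit (R := A₀) (g := u) (IsLocalRing.notMem_maximalIdeal.1 hu) hkr
  rw [show algebraMap A₀ A₀ = RingHom.id A₀ from rfl, Ideal.map_id] at hkr'
  obtain ⟨rs₀, hrs₀, hreg₀⟩ := exists_regular_of_krGen hle₁ hkr'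
  obtain ⟨g, hg, hkg⟩ := exists_krGen_away J₀ 𝔭₀ hle₀ rs₀ hrs₀ hreg₀
  refine ⟨σC g, fun hmem => hg ?_, ?_⟩
  · show θ (algebraMap P₀ P g) ∈ p'
    rw [MvPolynomial.algebraMap_eq, MvPolynomial.map_C]
    show σ (MvPolynomial.C (σC g)) ∈ q
    rw [← MvPolynomial.algebraMap_eq, σ.commutes]
    exact hmem
  · let U := Localization.Away g
    let Cg := Localization.Away (σC g)
    letI : Algebra U Cg := (IsLocalization.Away.map U Cg σC.toRingHom g).toAlgebra
    haveI : IsScalarTower R U Cg := IsScalarTower.of_algebraMap_eq fun r => by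
      show algebraMap R Cg r = IsLocalization.Away.map U Cg σC.toRingHom g (algebraMap R U r)
      rw [IsScalarTower.algebraMap_apply R P₀ U, ← RingHom.comp_apply, KRLib.awayMap_comp, RingHom.comp_apply,
        AlgHom.toRingHom_eq_coe, RingHom.coe_coe, σC.commutes, ← IsScalarTower.algebraMap_apply]
    haveI : Algebra.Smooth P₀ U := Algebra.Smooth.of_isLocalization_Away g
    haveI : Algebra.Smooth R U := Algebra.Smooth.comp R P₀ U
    refine KRLib.isLCI_trans (KoszAtLib.isLCI_of_smooth R U) (KoszAtLib.isLCI_of_surjective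
      (KRLib.awayMap_surjective σC.toRingHom g U Cg hσC) ?_)
    rw [show RingHom.ker (algebraMap U Cg) = J₀.map (algebraMap P₀ U) from KRLib.ker_awayMap σC.toRingHom g U Cg]
    exact hkg.locKR

end RegLCILib
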