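import Groth.Agent.RegLCILib.Master
import Groth.Agent.RegLCILib.Scheme
import Groth.Agent.KoszAtLib.Mor
import Groth.Prelude.Def_MoreMor
import Mathlib

/-!
# Cancellation for local complete intersection morphisms
-/

set_option autoImplicit false
set_option linter.style.haveILetI false
set_option backward.isDefEq.respectTransparency.types false

universe u

open CategoryTheory AlgebraicGeometry

namespace RegLCILib

theorem lci_and_koszulAt_target {X Y S : Scheme.{u}} (f : X ⟶ Y) (g : Y ⟶ S) [IsLocallyNoetherian S]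
    [LocallyOfFiniteType g] (h : ∀ x : X, Synt.IsKoszulAt (f ≫ g) x)
    (hfd : ∀ (U : X.Opens) (W : Y.Opens) (_ : IsAffineOpen U) (_ : IsAffineOpen W) (e : U ≤ f ⁻¹ᵁ W),
      letI := (f.appLE W U e).hom.toAlgebra
      LocFD Γ(Y, W) Γ(X, U)) :
    (∀ x : X, Synt.IsKoszulAt f x) ∧ ∀ x : X, Synt.IsKoszulAt g (f x) := by
  have hl : KoszAtLib.LCIMor (f ≫ g) := (KoszAtLib.forall_isKoszulAt_iff _).1 h
  have key : ∀ x : X, Synt.IsKoszulAt f x ∧ Synt.IsKoszulAt g (f x) := fun x => by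
    obtain ⟨V, hV, hxV, -⟩ := exists_isAffineOpen_mem_and_subset (x := g (f x)) (U := ⊤) trivial
    obtain ⟨W, hW, hxW, hWV⟩ := exists_isAffineOpen_mem_and_subset (x := f x) (U := g ⁻¹ᵁ V) hxV
    obtain ⟨U, hU, hxU, hUW⟩ := exists_isAffineOpen_mem_and_subset (x := x) (U := f ⁻¹ᵁ W) hxW
    have hUW' : U ≤ f ⁻¹ᵁ W := hUW
    have hUV : U ≤ (f ≫ g) ⁻¹ᵁ V :=
      (hUW'.trans (f.preimage_mono hWV)).trans_eq (Scheme.Hom.comp_preimage f g V).symm
    letI : Algebra Γ(S, V) Γ(Y, W) := (g.appLE V W hWV).hom.toAlgebra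
    letI : Algebra Γ(Y, W) Γ(X, U) := (f.appLE W U hUW').hom.toAlgebra
    letI : Algebra Γ(S, V) Γ(X, U) := ((f ≫ g).appLE V U hUV).hom.toAlgebra
    haveI : IsScalarTower Γ(S, V) Γ(Y, W) Γ(X, U) := IsScalarTower.of_algebraMap_eq fun a =>
      (congrArg (fun φ : Γ(S, V) ⟶ Γ(X, U) => φ.hom a) (Scheme.Hom.appLE_comp_appLE f g V W U hWV hUW') : _).symm
    haveI : IsNoetherianRing Γ(S, V) := IsLocallyNoetherian.component_noetherian ⟨V, hV⟩
    haveI : Algebra.FiniteType Γ(S, V) Γ(Y, W) := g.finiteType_appLE hV hW hWV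
    have hB : LCI.IsLCI Γ(S, V) Γ(X, U) :=
      HasRingHomProperty.appLE (P := KoszAtLib.LCIMor) (f ≫ g) hl ⟨V, hV⟩ ⟨U, hU⟩ hUV
    haveI : Algebra.FiniteType Γ(S, V) Γ(X, U) := hB.1
    haveI : Algebra.FiniteType Γ(Y, W) Γ(X, U) :=
      Algebra.FiniteType.of_restrictScalars_finiteType Γ(S, V) Γ(Y, W) Γ(X, U)
    obtain ⟨h1, h2⟩ := master (R := Γ(S, V)) (C := Γ(Y, W)) (B := Γ(X, U)) hB (hfd U W hU hW hUW')
    refine ⟨KoszAtLib.isKoszulAt_of_lciHom f hU hW hUW' h1 x hxU, ?_⟩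
    obtain ⟨c, hc, hCc⟩ := h2 (hU.primeIdealOf ⟨x, hxU⟩).asIdeal inferInstance
    have hq : (hU.primeIdealOf ⟨x, hxU⟩).asIdeal.comap (algebraMap Γ(Y, W) Γ(X, U)) =
        (hW.primeIdealOf ⟨f x, hxW⟩).asIdeal :=
      congrArg PrimeSpectrum.asIdeal (IsAffineOpen.comap_primeIdealOf_appLE (f := f) W hW U hU hUW' hxU)
    rw [hq] at hc
    have hmem : f x ∈ Y.basicOpen c := by
      have e := hW.fromSpec_primeIdealOf ⟨f x, hxW⟩
      change hW.fromSpec _ = f x at e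
      rw [← e, ← Scheme.Hom.mem_preimage, hW.fromSpec_preimage_basicOpen]
      exact (PrimeSpectrum.mem_basicOpen _ _).2 hc
    have hle : Y.basicOpen c ≤ g ⁻¹ᵁ V := (Y.basicOpen_le c).trans hWV
    haveI := hW.isLocalization_basicOpen c
    letI : Algebra Γ(S, V) Γ(Y, Y.basicOpen c) := (g.appLE V (Y.basicOpen c) hle).hom.toAlgebra
    let ε := IsLocalization.algEquiv (Submonoid.powers c) (Localization.Away c) Γ(Y, Y.basicOpen c)
    refine KoszAtLib.isKoszulAt_of_lciHom g (hW.basicOpen c) hV hle (show LCI.IsLCI Γ(S, V) Γ(Y, Y.basicOpen c) from ?_) _ hmem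
    refine KRLib.isLCI_of_algEquiv (AlgEquiv.ofRingEquiv (f := ε.toRingEquiv) fun a => ?_) hCc
    show ε (algebraMap Γ(S, V) (Localization.Away c) a) = (g.appLE V (Y.basicOpen c) hle).hom a
    rw [IsScalarTower.algebraMap_apply Γ(S, V) Γ(Y, W) (Localization.Away c), ε.commutes,
      ← Scheme.Hom.appLE_map g hWV (homOfLE (Y.basicOpen_le c)).op]
    rfl
  exact ⟨fun x => (key x).1, fun x => (key x).2⟩

theorem locFD_of_regular {X Y : Scheme.{u}} (f : X ⟶ Y) [IsLocallyNoetherian Y]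
    (hY : ∀ y : Y, IsRegularLocalRing (Y.presheaf.stalk y)) (U : X.Opens) (W : Y.Opens) (hW : IsAffineOpen W)
    (e : U ≤ f ⁻¹ᵁ W) :
    letI := (f.appLE W U e).hom.toAlgebra
    LocFD Γ(Y, W) Γ(X, U) := by
  letI := (f.appLE W U e).hom.toAlgebra
  haveI := isRegularRing_section hY hW
  exact locFD_of_isRegularRing

theorem locFD_of_perfect {X Y : Scheme.{u}} (f : X ⟶ Y) [IsLocallyNoetherian Y]
    (hf : MoreMor.IsPerfectMor f) (U : X.Opens) (W : Y.Opens) (hU : IsAffineOpen U) (hW : IsAffineOpen W)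
    (e : U ≤ f ⁻¹ᵁ W) :
    letI := (f.appLE W U e).hom.toAlgebra
    LocFD Γ(Y, W) Γ(X, U) := by
  letI := (f.appLE W U e).hom.toAlgebra
  haveI : IsNoetherianRing Γ(Y, W) := IsLocallyNoetherian.component_noetherian ⟨W, hW⟩
  exact locFD_of_hasFiniteTorDim (hf U W hU hW e).2

end RegLCILib
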