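import Groth.Agent.RegLCILib.Local
import Groth.Agent.RelRegLib.Gen
import Groth.Agent.TransLib.RegPres
import Groth.Agent.CIRingLib.Fibres
import Groth.Agent.KoszAtLib.Ring
import Mathlib

/-!
# Maps between regular rings are local complete intersections
-/

set_option autoImplicit false
set_option linter.style.haveILetI false

universe u

open KoszDetLib KRLib RingTheory.Sequence IsLocalRing

namespace RegLCILib

/-- A regular quotient of a regular ring is locally cut out by regular sequences. -/
theorem locKR_of_isRegularRing {P : Type u} [CommRing P] [IsRegularRing P] (I : Ideal P) [IsRegularRing (P ⧸ I)] :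
    LocKR I := by
  classical
  intro p hp hpI
  haveI : (p.map (Ideal.Quotient.mk I)).IsPrime :=
    Ideal.map_isPrime_of_surjective Ideal.Quotient.mk_surjective (by rwa [Ideal.mk_ker])
  have hq : (p.map (Ideal.Quotient.mk I)).comap (Ideal.Quotient.mkₐ P I).toRingHom = p := by
    show (p.map (Ideal.Quotient.mk I)).comap (Ideal.Quotient.mk I) = p
    rw [Ideal.comap_map_of_surjective _ Ideal.Quotient.mk_surjective, ← RingHom.ker_eq_comap_bot, Ideal.mk_ker,
      sup_eq_left.2 hpI]
  obtain ⟨π, hπ, hπk⟩ := TransLib.exists_localPresentation' (Ideal.Quotient.mkₐ P I) Ideal.Quotient.mk_surjective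
    (p.map (Ideal.Quotient.mk I)) p hq
  replace hπk : RingHom.ker π.toRingHom = I.map (algebraMap P (Localization.AtPrime p)) :=
    hπk.trans (congrArg _ Ideal.mk_ker)
  obtain ⟨rs, hreg, hspan⟩ := (CIRingLib.isCompleteIntersection_iff (B := Localization.AtPrime p) π.toRingHom hπ).1
    (CIRingLib.isCompleteIntersection_of_regular (Localization.AtPrime (p.map (Ideal.Quotient.mk I))))
  rw [hπk] at hspan
  exact exists_krGen_away I p hpI rs hspan hreg

theorem isLCI_of_isRegularRing {A B : Type u} [CommRing A] [CommRing B] [Algebra A B] [IsRegularRing A]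
    [IsRegularRing B] [Algebra.FiniteType A B] : LCI.IsLCI A B := by
  obtain ⟨n, φ, hφ⟩ := Algebra.FiniteType.iff_quotient_mvPolynomial''.1 (inferInstance : Algebra.FiniteType A B)
  refine ⟨inferInstance, n, φ, hφ, (locKR_iff _).1 ?_⟩
  haveI : IsRegularRing (MvPolynomial (Fin n) A ⧸ RingHom.ker φ.toRingHom) :=
    IsRegularRing.of_ringEquiv (RingHom.quotientKerEquivOfSurjective (f := φ.toRingHom) hφ).symm
  exact locKR_of_isRegularRing _

end RegLCILib
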